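import Cfsg.Agent.H603.AP.Rank
import Cfsg.Agent.H795.AbSyl

/-!
# S4791 + S4927: invariant forms on the dual of an abelian Sylow subgroup (helper694)

`P` an abelian Sylow `p`-subgroup, `N_S(P)` irreducible on `Ω₁(P)` (`H795.AbIrr`).

* `card_LL` : `|Hom(A, Z/p)| = |A[p]|` for a finite commutative group `A`;
* `roots_of_abIrr` : `P` is homocyclic;
* `exists_forms` : weights `w i : P → Z/p` with `N_S(P)`-invariant power sums `∑ (w i x) ^ k` and `∑ (w i x₀) ^ 2 ≠ 0` for one
  `x₀`: there is a surjection `b : P → Hom(P, Z/p)`, and for every `k` an invariant form `f` of degree `k` with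
  `f (b x) = ∑ (w i x) ^ k`.
* `two_forms` : two linearly independent invariant forms of degree `p - 3`.
-/

set_option autoImplicit false
set_option linter.unusedSectionVars false

namespace Cfsg.Agent.H694.XZ

open Cfsg Subgroup
open Cfsg.Agent.H603.AP Cfsg.Agent.H795

universe u

/-! ### the dual group -/

section dual

variable {p : ℕ} [hp : Fact p.Prime] {A : Type u} [CommGroup A] [Finite A]

/-- `|Hom(A, Z/p)| = |A[p]|` -/
theorem card_LL : Nat.card (LL p A) = Nat.card {x : A // x ^ p = 1} := by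
  classical
  obtain ⟨e⟩ := CommGroup.monoidHom_mulEquiv_of_hasEnoughRootsOfUnity A ℂ
  refine Nat.card_congr (Equiv.ofBijective (fun l : LL p A => (⟨e (chU l), by
    rw [← map_pow, chU_pow, map_one]⟩ : {x : A // x ^ p = 1})) ⟨fun l m h => ?_, fun x => ?_⟩)
  · exact chU_injective (e.injective (congrArg Subtype.val h))
  · have h1 : (e.symm x.1) ^ p = 1 := by rw [← map_pow, x.2, map_one]
    obtain ⟨l, hl⟩ := exists_chU h1
    exact ⟨l, Subtype.ext (by
      show e (chU l) = x.1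
      rw [hl, e.apply_symm_apply])⟩

end dual

section syl

variable {p : ℕ} [hp : Fact p.Prime] {S : Type u} [Group S] [Finite S]

/-- `P` is homocyclic -/
theorem roots_of_abIrr (hA : AbIrr p S) (hd : p ∣ Nat.card S) (P : Sylow p S)
    (hab : ∀ x ∈ P, ∀ y ∈ P, x * y = y * x) :
    ∃ n : ℕ, (∀ x : P, x ^ p ^ (n + 1) = 1) ∧ (∀ x : P, x ^ p = 1 → ∃ y : P, y ^ p ^ n = x) := by
  classical
  have hS : IsMulCommutative (P : Subgroup S) := isMulCommutative_of hab
  have hP1 : ∃ x ∈ (P : Subgroup S), x ≠ 1 := by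
    have hP : (P : Subgroup S) ≠ ⊥ := by
      intro h
      have h1 := P.dvd_card_of_dvd_card hd
      rw [h, Subgroup.card_bot] at h1
      exact hp.out.one_lt.ne' (Nat.dvd_one.1 h1)
    obtain ⟨⟨g, hg⟩, hg1⟩ := Subgroup.ne_bot_iff_exists_ne_one.1 hP
    exact ⟨g, hg, fun h => hg1 (Subtype.ext h)⟩
  obtain ⟨m, hm⟩ : ∃ m : ℕ, ∀ a ∈ (P : Subgroup S), a ^ p ^ m = 1 := by
    obtain ⟨m, hm⟩ := IsPGroup.iff_card.1 P.2
    refine ⟨m, fun a ha => ?_⟩
    rw [← hm]
    have := pow_card_eq_one' (x := (⟨a, ha⟩ : (P : Subgroup S)))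
    exact congrArg Subtype.val this
  let f := Nat.find (⟨m, hm⟩ : ∃ m : ℕ, ∀ a ∈ (P : Subgroup S), a ^ p ^ m = 1)
  have hf : ∀ a ∈ (P : Subgroup S), a ^ p ^ f = 1 := Nat.find_spec (⟨m, hm⟩ : ∃ m : ℕ, ∀ a ∈ (P : Subgroup S), a ^ p ^ m = 1)
  have hf1 : 1 ≤ f := by
    by_contra h0
    have h0' : f = 0 := by omega
    obtain ⟨x, hx, hx1⟩ := hP1
    have := hf x hx
    rw [h0', pow_zero, pow_one] at this
    exact hx1 this
  have hfm : ∃ a ∈ (P : Subgroup S), a ^ p ^ (f - 1) ≠ 1 := by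
    have := Nat.find_min (⟨m, hm⟩ : ∃ m : ℕ, ∀ a ∈ (P : Subgroup S), a ^ p ^ m = 1) (m := f - 1) (by omega)
    push Not at this
    exact this
  refine ⟨f - 1, fun x => Subtype.ext ?_, fun x hx => ?_⟩
  · rw [Nat.sub_add_cancel hf1]
    exact hf x x.2
  · rcases hA P hS (powS (p ^ (f - 1)) (P : Subgroup S) hS) (by
        rintro _ ⟨a, ha, rfl⟩
        exact (P : Subgroup S).pow_mem ha _) (by
        rintro _ ⟨a, ha, rfl⟩
        rw [← pow_mul, ← pow_succ, Nat.sub_add_cancel hf1]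
        exact hf a ha) (by
        rintro n hn _ ⟨a, ha, rfl⟩
        exact ⟨n * a * n⁻¹, (mem_normalizer_iff.1 hn a).1 ha, conj_pow' n a _⟩) with h1 | h1
    · exfalso
      obtain ⟨a, ha, ha1⟩ := hfm
      have h2 : a ^ p ^ (f - 1) ∈ powS (p ^ (f - 1)) (P : Subgroup S) hS := ⟨a, ha, rfl⟩
      rw [h1, mem_bot] at h2
      exact ha1 h2
    · obtain ⟨a, ha, hax⟩ := h1 x x.2 (congrArg Subtype.val hx)
      exact ⟨⟨a, ha⟩, Subtype.ext hax⟩

variable {P : Sylow p S} {ι : Type*} [Fintype ι] (w : ι → LL p P)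

/-- the bilinear form -/
def bf (x y : P) : ZMod p := ∑ i, ev (w i) x * ev (w i) y

theorem bf_comm (x y : P) : bf w x y = bf w y x := Finset.sum_congr rfl fun i _ => mul_comm _ _

theorem bf_mul_right (x y z : P) : bf w x (y * z) = bf w x y + bf w x z := by
  unfold bf
  rw [← Finset.sum_add_distrib]
  refine Finset.sum_congr rfl fun i _ => ?_
  rw [ev_mul, mul_add]

theorem bf_mul_left (x y z : P) : bf w (x * y) z = bf w x z + bf w y z := by
  rw [bf_comm, bf_mul_right, bf_comm w z x, bf_comm w z y]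

/-- the homomorphism to the dual -/
def bh : P →* LL p P where
  toFun x := MonoidHom.mk' (fun y => Multiplicative.ofAdd (bf w x y)) fun y z => by rw [bf_mul_right, ofAdd_add]
  map_one' := by
    refine ev_ext fun y => ?_
    show bf w 1 y = 0
    unfold bf
    refine Finset.sum_eq_zero fun i _ => ?_
    rw [ev_one, zero_mul]
  map_mul' x y := by
    refine ev_ext fun z => ?_
    show bf w (x * y) z = bf w x z + bf w y z
    exact bf_mul_left w x y z

theorem ev_bh (x y : P) : ev (bh w x) y = bf w x y := rfl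

/-- the power sums -/
def ps (k : ℕ) (x : P) : ZMod p := ∑ i, ev (w i) x ^ k

theorem ps_two_mul (x y : P) : ps w 2 (x * y) = ps w 2 x + ps w 2 y + 2 * bf w x y := by
  unfold ps bf
  rw [Finset.mul_sum, ← Finset.sum_add_distrib, ← Finset.sum_add_distrib]
  refine Finset.sum_congr rfl fun i _ => ?_
  rw [ev_mul]
  ring

/-- invariance of the power sums -/
def PInv : Prop := ∀ k : ℕ, ∀ g ∈ normalizer ((P : Subgroup S) : Set S), ∀ x y : P, g * (x : S) * g⁻¹ = (y : S) → ps w k y = ps w k x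

variable {w}

theorem bf_inv (hp2 : p ≠ 2) (hw : PInv w) {g : S} (hg : g ∈ normalizer ((P : Subgroup S) : Set S)) {x x' y y' : P}
    (hx : g * (x : S) * g⁻¹ = (x' : S)) (hy : g * (y : S) * g⁻¹ = (y' : S)) : bf w x' y' = bf w x y := by
  have h2 : (2 : ZMod p) ≠ 0 := by
    intro h
    have h3 : ((2 : ℕ) : ZMod p) = 0 := by exact_mod_cast h
    rw [ZMod.natCast_eq_zero_iff] at h3
    exact hp2 ((Nat.prime_dvd_prime_iff_eq hp.out Nat.prime_two).1 h3)
  have h3 := hw 2 g hg (x * y) (x' * y') (by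
    rw [Subgroup.coe_mul, Subgroup.coe_mul, ← hx, ← hy]
    group)
  rw [ps_two_mul, ps_two_mul, hw 2 g hg x x' hx, hw 2 g hg y y' hy] at h3
  exact mul_left_cancel₀ h2 (add_left_cancel h3)

/-- **The form is nondegenerate.** -/
theorem bh_surjective (hp2 : p ≠ 2) (hA : AbIrr p S) (hab : ∀ x ∈ P, ∀ y ∈ P, x * y = y * x) {n : ℕ}
    (hn1 : ∀ x : P, x ^ p ^ (n + 1) = 1) (hn : ∀ x : P, x ^ p = 1 → ∃ y : P, y ^ p ^ n = x)
    (hw1 : ∀ i, ∀ x : P, x ^ p ^ n = 1 → ev (w i) x = 0) (hw : PInv w) {x₀ : P} (h0 : ps w 2 x₀ ≠ 0) :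
    Function.Surjective (bh w) := by
  classical
  have hS : IsMulCommutative (P : Subgroup S) := isMulCommutative_of hab
  let _ : CommGroup P := { (inferInstance : Group P) with mul_comm := fun a b => Subtype.ext (hab a a.2 b b.2) }
  let π : P →* P := powMonoidHom (p ^ n)
  have hπ : ∀ x : P, π x = x ^ p ^ n := fun x => rfl
  -- equal powers, equal weights
  have heq : ∀ x y : P, x ^ p ^ n = y ^ p ^ n → ∀ i, ev (w i) x = ev (w i) y := by
    intro x y hxy i
    have h1 : (x * y⁻¹) ^ p ^ n = 1 := by rw [mul_pow, inv_pow, hxy, mul_inv_cancel]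
    have h2 := hw1 i _ h1
    have h3 := ev_mul (w i) (x * y⁻¹) y
    rw [inv_mul_cancel_right, h2, zero_add] at h3
    exact h3
  -- the kernel
  have hker : (bh w).ker = π.ker := by
    apply le_antisymm
    · -- the powers of the elements of the kernel
      let B : Subgroup S := ((bh w).ker.map π).map (P : Subgroup S).subtype
      have hBmem : ∀ b : S, b ∈ B ↔ ∃ x : P, bh w x = 1 ∧ ((x ^ p ^ n : P) : S) = b := by
        intro b
        constructor
        · rintro ⟨_, ⟨x, hx, rfl⟩, rfl⟩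
          exact ⟨x, hx, rfl⟩
        · rintro ⟨x, hx, rfl⟩
          exact ⟨_, ⟨x, hx, rfl⟩, rfl⟩
      rcases hA P hS B (by
          intro b hb
          obtain ⟨x, -, rfl⟩ := (hBmem b).1 hb
          exact (x ^ p ^ n : P).2) (by
          intro b hb
          obtain ⟨x, -, rfl⟩ := (hBmem b).1 hb
          rw [← Subgroup.coe_pow, ← pow_mul, ← pow_succ, hn1]
          rfl) (by
          intro g hg b hb
          obtain ⟨x, hx, rfl⟩ := (hBmem b).1 hb
          let c : P → P := fun y => ⟨g * y * g⁻¹, (mem_normalizer_iff.1 hg y).1 y.2⟩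
          have hc : ∀ y : P, g * (y : S) * g⁻¹ = (c y : S) := fun y => rfl
          refine (hBmem _).2 ⟨c x, ?_, ?_⟩
          · refine ev_ext fun z => ?_
            -- `z = c z'`
            have hz : ∃ z' : P, g * (z' : S) * g⁻¹ = (z : S) := by
              refine ⟨⟨g⁻¹ * z * g, ?_⟩, by simp only; group⟩
              have h1 := (mem_normalizer_iff.1 hg (g⁻¹ * z * g)).2
              apply h1
              have : g * (g⁻¹ * (z : S) * g) * g⁻¹ = z := by group
              rw [this]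
              exact z.2
            obtain ⟨z', hz'⟩ := hz
            rw [ev_bh, bf_inv hp2 hw hg (hc x) hz', ← ev_bh, hx]
            rfl
          · rw [Subgroup.coe_pow, ← hc, Subgroup.coe_pow, conj_pow']) with h1 | h1
      · intro x hx
        rw [MonoidHom.mem_ker] at hx ⊢
        have h2 : ((x ^ p ^ n : P) : S) ∈ B := (hBmem _).2 ⟨x, hx, rfl⟩
        rw [h1, mem_bot] at h2
        rw [hπ]
        exact Subtype.ext h2
      · exfalso
        -- everything is in the kernel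
        have h2 : ((x₀ ^ p ^ n : P) : S) ∈ B := h1 _ (x₀ ^ p ^ n : P).2 (by
          rw [← Subgroup.coe_pow, ← pow_mul, ← pow_succ, hn1]
          rfl)
        obtain ⟨x, hx, hx'⟩ := (hBmem _).1 h2
        have h3 := heq x x₀ (Subtype.ext hx')
        apply h0
        have h4 : ev (bh w x) x = 0 := by rw [hx]; rfl
        rw [ev_bh] at h4
        unfold ps
        rw [← h4]
        unfold bf
        refine Finset.sum_congr rfl fun i _ => ?_
        rw [h3 i, pow_two]
    · intro x hx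
      rw [MonoidHom.mem_ker, hπ] at hx
      rw [MonoidHom.mem_ker]
      refine ev_ext fun y => ?_
      rw [ev_bh]
      unfold bf
      rw [show ev (1 : LL p P) y = 0 from rfl]
      refine Finset.sum_eq_zero fun i _ => ?_
      rw [hw1 i x hx, zero_mul]
  -- counting
  have hfin := finite_LL (p := p) (A := P)
  have h1 : Nat.card (bh w).range = Nat.card (LL p P) := by
    have h2 : Nat.card (bh w).range = Nat.card π.range := by
      have h3 := (bh w).ker.index_eq_card
      have e1 := Nat.card_congr (QuotientGroup.quotientKerEquivRange (bh w)).toEquiv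
      have e2 := Nat.card_congr (QuotientGroup.quotientKerEquivRange π).toEquiv
      rw [← e1, ← e2, ← Subgroup.index_eq_card, ← Subgroup.index_eq_card, hker]
    rw [h2, card_LL]
    refine Nat.card_congr (Equiv.subtypeEquivRight fun x => ?_)
    constructor
    · rintro ⟨y, rfl⟩
      rw [hπ, ← pow_mul, ← pow_succ, hn1]
    · intro hx
      obtain ⟨y, hy⟩ := hn x hx
      exact ⟨y, hy⟩
  have h2 : (bh w).range = ⊤ := Subgroup.eq_top_of_card_eq _ h1
  exact MonoidHom.range_eq_top.1 h2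

/-- **Forms.** -/
theorem exists_forms (hp2 : p ≠ 2) (hA : AbIrr p S) (hab : ∀ x ∈ P, ∀ y ∈ P, x * y = y * x) {n : ℕ}
    (hn1 : ∀ x : P, x ^ p ^ (n + 1) = 1) (hn : ∀ x : P, x ^ p = 1 → ∃ y : P, y ^ p ^ n = x)
    (hw1 : ∀ i, ∀ x : P, x ^ p ^ n = 1 → ev (w i) x = 0) (hw : PInv w) {x₀ : P} (h0 : ps w 2 x₀ ≠ 0) (k : ℕ) :
    ∃ f : LL p P → ZMod p, f ∈ Pol p P k ∧ WInv P f ∧ ∀ x, f (bh w x) = ps w k x := by
  classical
  have hsur := bh_surjective hp2 hA hab hn1 hn hw1 hw h0
  choose z hz using fun i => hsur (w i)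
  have hval : ∀ x i, ev (bh w x) (z i) = ev (w i) x := by
    intro x i
    rw [ev_bh, bf_comm, ← ev_bh, hz]
  refine ⟨fun l => ∑ i, ev l (z i) ^ k, ?_, ?_, fun x => ?_⟩
  · have h1 : (fun l : LL p P => ∑ i, ev l (z i) ^ k) = ∑ i, (fun l : LL p P => ev l (z i)) ^ k := by
      funext l
      rw [Finset.sum_apply]
      rfl
    rw [h1]
    refine Submodule.sum_mem _ fun i _ => ?_
    have h2 := Pol_pow (ev_mem (p := p) (z i)) k
    rwa [mul_one] at h2
  · intro g hg l l' hll
    obtain ⟨x, rfl⟩ := hsur l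
    obtain ⟨x', hx'⟩ : ∃ x' : P, g * (x : S) * g⁻¹ = (x' : S) := ⟨⟨g * x * g⁻¹, (mem_normalizer_iff.1 hg x).1 x.2⟩, rfl⟩
    have h1 : l' = bh w x' := by
      refine ev_ext fun y' => ?_
      obtain ⟨y, hy⟩ : ∃ y : P, g * (y : S) * g⁻¹ = (y' : S) := by
        refine ⟨⟨g⁻¹ * y' * g, ?_⟩, by simp only; group⟩
        apply (mem_normalizer_iff.1 hg (g⁻¹ * y' * g)).2
        have : g * (g⁻¹ * (y' : S) * g) * g⁻¹ = y' := by group
        rw [this]
        exact y'.2
      rw [hll y y' hy, ev_bh, ev_bh, bf_inv hp2 hw hg hx' hy]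
    subst h1
    have h2 : ∀ x, ∑ i, ev (bh w x) (z i) ^ k = ps w k x := fun x => Finset.sum_congr rfl fun i _ => by rw [hval]
    show ∑ i, ev (bh w x') (z i) ^ k = ∑ i, ev (bh w x) (z i) ^ k
    rw [h2, h2]
    exact hw k g hg x x' hx'
  · exact Finset.sum_congr rfl fun i _ => by rw [hval]

/-- **Two linearly independent invariant forms of degree `p - 3`.** -/
theorem two_forms (h11 : 11 ≤ p) (hA : AbIrr p S) (hab : ∀ x ∈ P, ∀ y ∈ P, x * y = y * x) {n : ℕ}
    (hn1 : ∀ x : P, x ^ p ^ (n + 1) = 1) (hn : ∀ x : P, x ^ p = 1 → ∃ y : P, y ^ p ^ n = x)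
    (hw1 : ∀ i, ∀ x : P, x ^ p ^ n = 1 → ev (w i) x = 0) (hw : PInv w) {x y : P} (hx : ps w 2 x ≠ 0) (hy : ps w 2 y ≠ 0)
    (hxy : ps w 8 x * ps w 2 y ^ 4 ≠ ps w 8 y * ps w 2 x ^ 4) :
    ∃ f g : LL p P → ZMod p, f ∈ Pol p P (p - 3) ∧ g ∈ Pol p P (p - 3) ∧ WInv P f ∧ WInv P g ∧
      LinearIndependent (ZMod p) ![f, g] := by
  have hodd : p % 2 = 1 := hp.out.eq_two_or_odd.resolve_left (by omega)
  obtain ⟨f, hf, hfW, hfv⟩ := exists_forms (by omega) hA hab hn1 hn hw1 hw hx 2
  obtain ⟨g, hg, hgW, hgv⟩ := exists_forms (by omega) hA hab hn1 hn hw1 hw hx 8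
  have e1 : (p - 3) / 2 * 2 = p - 3 := by omega
  have e2 : (p - 11) / 2 * 2 + 8 = p - 3 := by omega
  have e3 : (p - 3) / 2 = (p - 11) / 2 + 4 := by omega
  refine ⟨f ^ ((p - 3) / 2), f ^ ((p - 11) / 2) * g, ?_, ?_, hfW.pow _, ?_, ?_⟩
  · have := Pol_pow hf ((p - 3) / 2)
    rwa [e1] at this
  · have := Pol_mul (Pol_pow hf ((p - 11) / 2)) hg
    rwa [e2] at this
  · intro c hc l l' h
    rw [Pi.mul_apply, Pi.mul_apply, hfW.pow _ c hc l l' h, hgW c hc l l' h]
  · rw [LinearIndependent.pair_iff]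
    intro s t hst
    have key : ∀ z : P, ps w 2 z ≠ 0 → s * ps w 2 z ^ 4 + t * ps w 8 z = 0 := by
      intro z hz
      have h1 := congrFun hst (bh w z)
      simp only [Pi.add_apply, Pi.smul_apply, Pi.pow_apply, Pi.mul_apply, hfv, hgv, smul_eq_mul, Pi.zero_apply] at h1
      rw [e3, pow_add] at h1
      have h2 : ps w 2 z ^ ((p - 11) / 2) ≠ 0 := pow_ne_zero _ hz
      have h3 : ps w 2 z ^ ((p - 11) / 2) * (s * ps w 2 z ^ 4 + t * ps w 8 z) = 0 := by
        rw [← h1]
        ring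
      exact (mul_eq_zero.1 h3).resolve_left h2
    have h1 := key x hx
    have h2 := key y hy
    have h3 : t * (ps w 8 x * ps w 2 y ^ 4 - ps w 8 y * ps w 2 x ^ 4) = 0 := by
      linear_combination (ps w 2 y ^ 4) * h1 - (ps w 2 x ^ 4) * h2
    have ht : t = 0 := by
      rcases mul_eq_zero.1 h3 with h4 | h4
      · exact h4
      · exact absurd (sub_eq_zero.1 h4) hxy
    subst ht
    rw [zero_mul, add_zero] at h1
    exact ⟨(mul_eq_zero.1 h1).resolve_right (pow_ne_zero _ hx), rfl⟩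

end syl

end Cfsg.Agent.H694.XZ
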