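import Cfsg.Agent.H674.XZ.Base

/-!
# S4791 + S4927: the sum of the squares over `X0` (helper694)

* `xsum_deg` : if `p` divides `|G|`, then the sum of `χ(1)²` over the members of `X0` is divisible by `p`.
* `lt_x0` : if `n` members of `X0` have a sum of squares of the degrees not divisible by `p`, then `n < |X0|`.
-/

set_option autoImplicit false

open scoped ComplexConjugate

namespace Cfsg.Agent.H694.XZ

open Cfsg Cfsg.Agent.Characters Cfsg.Agent.Characters.Core Cfsg.Agent.H145.BR Cfsg.Agent.H667.BR Cfsg.Agent.H674.XZ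

universe u

variable {p : ℕ} {M : Ideal AlgInt} {G : Type u} [Group G] [Finite G]

open scoped Classical in
omit [Finite G] in
theorem permC_reg (g : G) : permC G G g = if g = 1 then (Nat.card G : ℂ) else 0 := by
  unfold permC
  split_ifs with h
  · subst h
    have : MulAction.fixedBy G (1 : G) = Set.univ := by
      ext x
      simp
    rw [this, Nat.card_congr (Equiv.Set.univ G)]
  · have : MulAction.fixedBy G g = ∅ := by
      ext x
      simp [h]
    rw [this]
    simp

/-- the multiplicities in the regular character -/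
theorem ip_reg (χ : IrrCharacter G) : ip (permC G G) (χ : G → ℂ) = (charDegree (χ : G → ℂ) : ℤ) := by
  classical
  have := Fintype.ofFinite G
  rw [ip_eq, classInner_def, Finset.sum_eq_single (1 : G)]
  · rw [permC_reg, if_pos rfl, charDegree_cast, Complex.conj_natCast]
    have h : (Nat.card G : ℂ) ≠ 0 := by exact_mod_cast (Nat.card_pos (α := G)).ne'
    rw [← mul_assoc, inv_mul_cancel₀ h, one_mul, Int.cast_natCast]
  · intro g _ hg
    rw [permC_reg, if_neg hg, zero_mul]
  · intro h
    exact absurd (Finset.mem_univ _) h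

/-- the functional at the regular character -/
theorem FV_reg [hp : Fact p.Prime] (hM : IsPModular p M) (hd : p ∣ Nat.card G) : FV p M (permC G G) 0 := by
  obtain ⟨P⟩ : Nonempty (Sylow p G) := inferInstance
  have h := FV.perm hM P G
  have h0 : cnt (P : Subgroup G) G = 0 := by
    unfold cnt
    rw [Nat.card_eq_zero]
    left
    constructor
    intro q
    obtain ⟨x, -⟩ := Quot.exists_rep q
    have hP : (P : Subgroup G) ≠ ⊥ := by
      intro h
      have h1 := P.dvd_card_of_dvd_card hd
      rw [h, Subgroup.card_bot] at h1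
      exact hp.out.one_lt.ne' (Nat.dvd_one.1 h1)
    obtain ⟨⟨g, hg⟩, hg1⟩ := Subgroup.ne_bot_iff_exists_ne_one.1 hP
    have h2 := x.2 g hg
    rw [smul_eq_mul] at h2
    exact hg1 (Subtype.ext (mul_eq_right.1 h2))
  rw [h0, Nat.cast_zero] at h
  exact h

/-- **The sum of the squares.** -/
theorem xsum_deg [hp : Fact p.Prime] (hM : IsPModular p M) (hd : p ∣ Nat.card G) :
    (p : ℤ) ∣ xsum p M (fun χ : IrrCharacter G => (charDegree (χ : G → ℂ) : ℤ)) := by
  have h := (FV_reg (G := G) hM hd).sum_mem0 (m := fun χ : IrrCharacter G => (charDegree (χ : G → ℂ) : ℤ)) ip_reg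
  exact (Int.modEq_zero_iff_dvd).1 h

/-- `n` known members, their degrees have a sum of squares not divisible by `p`: there is one more. -/
theorem lt_x0 [hp : Fact p.Prime] (hM : IsPModular p M) (hd : p ∣ Nat.card G) {ι : Type*} [Fintype ι] (χ : ι → IrrCharacter G)
    (hinj : Function.Injective χ) (hmem : ∀ i, Mem0 p M (χ i))
    (hs : ¬ (p : ℤ) ∣ ∑ i, (charDegree (χ i : G → ℂ) : ℤ) * charDegree (χ i : G → ℂ)) : Fintype.card ι < x0 p M G := by
  classical
  have hfin := finite_mem0 (p := p) (M := M) (G := G)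
  have hfin' : Finite (IrrCharacter G) := finite_irr
  let ft : Fintype (IrrCharacter G) := Fintype.ofFinite _
  let f : ι → {χ : IrrCharacter G // Mem0 p M χ} := fun i => ⟨χ i, hmem i⟩
  have hf : Function.Injective f := fun i j h => hinj (congrArg Subtype.val h)
  have hle : Nat.card ι ≤ x0 p M G := Nat.card_le_card_of_injective f hf
  rw [Nat.card_eq_fintype_card] at hle
  refine lt_of_le_of_ne hle fun heq => ?_
  have hb : Function.Bijective f := by
    rw [Nat.bijective_iff_injective_and_card]
    exact ⟨hf, by rw [Nat.card_eq_fintype_card, heq]; rfl⟩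
  apply hs
  have h1 := xsum_deg (G := G) hM hd
  unfold xsum at h1
  have h2 : (∑ χ : IrrCharacter G, if Mem0 p M χ then (charDegree (χ : G → ℂ) : ℤ) * charDegree (χ : G → ℂ) else 0) =
      ∑ i, (charDegree (χ i : G → ℂ) : ℤ) * charDegree (χ i : G → ℂ) := by
    rw [← Finset.sum_filter]
    symm
    refine Finset.sum_bij (fun i _ => χ i) (fun i _ => ?_) (fun i _ j _ h => hinj h) (fun ψ hψ => ?_) (fun i _ => rfl)
    · rw [Finset.mem_filter]
      exact ⟨Finset.mem_univ _, hmem i⟩
    · rw [Finset.mem_filter] at hψ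
      obtain ⟨i, hi⟩ := hb.2 ⟨ψ, hψ.2⟩
      exact ⟨i, Finset.mem_univ _, congrArg Subtype.val hi⟩
  rw [← h2]
  convert h1 using 2

end Cfsg.Agent.H694.XZ
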