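import Cfsg.Agent.H694.XZ.Mat
import Cfsg.Agent.H349.KBE.TwoRows
import Cfsg.Agent.H795.ExcRow
import Cfsg.Agent.H83.RootCount

/-!
# S4791 + S4927: the exceptional groups, `p ∣ q² - 1`: two invariant forms of degree `p - 3` (helper694)

* `sylow_toral` : `p ∤ |W|`: a Sylow `p`-subgroup is abelian and diagonal in a suitable basis of the Lie algebra;
* `forms_of` : `m : MData hp r q K₀`, two orthogonal roots fixed by the Frobenius automorphism;
* `TF p K` : there is an abelian Sylow `p`-subgroup with two linearly independent invariant forms of degree `p - 3`;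
* `tf_F4`, `tf_E6`, `tf_E7`, `tf_E8`, `tf_2E6`.
-/

set_option autoImplicit false
set_option linter.unusedSectionVars false

namespace Cfsg.Agent.H694.XM

open CoxeterSystem Cfsg Cfsg.Lie Cfsg.Lie.ChevalleyDatum
open Cfsg.Agent.ChevalleyStructure Cfsg.Agent.ChevalleyStructure.Elts Cfsg.Agent.ChevalleyStructure.CoxeterGeom
  Cfsg.Agent.ChevalleyStructure.CoxeterGeomTypes Cfsg.Agent.ChevalleyStructure.NPerm
open Cfsg.Agent.Tits.Roots Cfsg.Agent.Tits.Core Cfsg.Agent.Nodes Cfsg.Agent.Nodes.Reps Cfsg.Agent.Nodes.BNOf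
  Cfsg.Agent.Nodes.RGDChev
open Cfsg.Agent.KFacts.RgdChevCoord
open Cfsg.Agent.Nodes.RGDFold Cfsg.Agent.Nodes.RGDFoldSL
open Cfsg.Agent.H469.Exc Cfsg.Agent.H469.Exc.SigFr Cfsg.Agent.H316.U6
open Cfsg.Agent.BpExc.LangFr
open Cfsg.Agent.ChevalleyStructure.HMatDiagAll (expo)
open Cfsg.Agent.H603.AP Cfsg.Agent.H795
open Cfsg.Agent.H81.TorOrth (exists_elt order_elt exists_root Cm ps_comm)
open Cfsg.Agent.H349.KBE (ex entry')

universe u v w

/-- two linearly independent invariant forms of degree `p - 3` -/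
def TF (p : ℕ) [Fact p.Prime] (K : Type v) [Group K] [Finite K] : Prop :=
  ∃ P : Sylow p K, (∀ x ∈ (P : Subgroup K), ∀ y ∈ (P : Subgroup K), x * y = y * x) ∧
    ∃ f g : LL p P → ZMod p, f ∈ Pol p P (p - 3) ∧ g ∈ Pol p P (p - 3) ∧ WInv P f ∧ WInv P g ∧
      LinearIndependent (ZMod p) ![f, g]

section Main

variable {D : ChevalleyDatum} {l : ℕ} {M : CoxeterMatrix (Fin l)} {hp : IsType D l M} {r q : ℕ}
  [hr : Fact r.Prime] {K₀ : Type v} [Group K₀] [Finite K₀] (m : MData hp r q K₀)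

theorem mul_comm_of_diag {D : ChevalleyDatum} {k : Type w} [Field k] {X Y : ↥(D.group k)} {d e : D.Idx → k}
    (hX : ((X : GL D.Idx k) : Matrix D.Idx D.Idx k) = Matrix.diagonal d)
    (hY : ((Y : GL D.Idx k) : Matrix D.Idx D.Idx k) = Matrix.diagonal e) : X * Y = Y * X := by
  apply Subtype.ext
  apply Units.ext
  rw [Subgroup.coe_mul, Subgroup.coe_mul, Units.val_mul, Units.val_mul, hX, hY, Matrix.diagonal_mul_diagonal,
    Matrix.diagonal_mul_diagonal]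
  congr 1
  funext i
  exact mul_comm _ _

/-- **Sylow subgroups are toral.** -/
theorem sylow_toral {p : ℕ} [hpp : Fact p.Prime] (hpr : p ≠ r) (hW : ¬ p ∣ Nat.card M.Group) (P : Sylow p K₀) :
    (∀ x ∈ (P : Subgroup K₀), ∀ y ∈ (P : Subgroup K₀), x * y = y * x) ∧ ∃ C : GL D.Idx (KK r), ∀ x ∈ (P : Subgroup K₀),
      ∃ d : D.Idx → KK r, ((C * ((D.group (KK r)).subtype.comp m.ι) x * C⁻¹ : GL D.Idx (KK r)) : Matrix D.Idx D.Idx (KK r)) =
        Matrix.diagonal d := by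
  have : Finite ↥((P : Subgroup K₀).map m.ι) := Set.Finite.to_subtype ((Set.toFinite _).image _)
  obtain ⟨g, hg⟩ := H795.TorSub.exists_toral_of_not_dvd hp r (locFin r) hpp.out hpr hW (Q := (P : Subgroup K₀).map m.ι)
    (P.2.map _)
  have hd : ∀ x ∈ (P : Subgroup K₀), ∃ d : D.Idx → KK r,
      ((((g * m.ι x * g⁻¹ : ↥(D.group (KK r))) : GL D.Idx (KK r))) : Matrix D.Idx D.Idx (KK r)) = Matrix.diagonal d :=
    fun x hx => ⟨_, H83.RootCount.coe_eq_diagonal hp (hg _ ⟨x, hx, rfl⟩)⟩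
  refine ⟨fun x hx y hy => ?_, (g : GL D.Idx (KK r)), fun x hx => hd x hx⟩
  obtain ⟨d, hd1⟩ := hd x hx
  obtain ⟨e, he1⟩ := hd y hy
  have h1 : (g * m.ι x * g⁻¹) * (g * m.ι y * g⁻¹) = (g * m.ι y * g⁻¹) * (g * m.ι x * g⁻¹) := mul_comm_of_diag hd1 he1
  apply m.inj
  rw [map_mul, map_mul]
  have h2 : g * (m.ι x * m.ι y) * g⁻¹ = g * (m.ι y * m.ι x) * g⁻¹ := by
    calc g * (m.ι x * m.ι y) * g⁻¹ = (g * m.ι x * g⁻¹) * (g * m.ι y * g⁻¹) := by group
      _ = _ := h1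
      _ = g * (m.ι y * m.ι x) * g⁻¹ := by group
  exact mul_left_cancel (mul_right_cancel h2)

theorem sum_ex_pow {j : ℕ} (hj : j ≠ 0) (D : ChevalleyDatum) (s : ℕ) :
    ∑ x, ex D s x ^ j = ∑ x : Fin D.nroots, expo D s x.val ^ j := by
  rw [Fintype.sum_sum_type]
  simp [ex, hj]

theorem sum_ex_add_pow {j : ℕ} (hj : j ≠ 0) (D : ChevalleyDatum) (s t : ℕ) :
    ∑ x, (ex D s x + ex D t x) ^ j = ∑ x : Fin D.nroots, (expo D s x.val + expo D t x.val) ^ j := by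
  rw [Fintype.sum_sum_type]
  simp [ex, hj]

/-- **Two forms.** -/
theorem forms_of {p : ℕ} [hpp : Fact p.Prime] (h11 : 11 ≤ p) (hpr : p ≠ r) (hd : p ∣ q ^ 2 - 1)
    (hW : ¬ p ∣ Nat.card M.Group) (hA : AbIrr p K₀) {s t : ℕ}
    (hs : s < D.nroots) (ht : t < D.nroots) (hgs : m.g (vec D l s) = vec D l s) (hgt : m.g (vec D l t) = vec D l t)
    (hc : Cm D s t = true) {A2 A8 B2 B8 : ℤ} (hA2 : ∑ x : Fin D.nroots, expo D s x.val ^ 2 = A2)
    (hA8 : ∑ x : Fin D.nroots, expo D s x.val ^ 8 = A8)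
    (hB2 : ∑ x : Fin D.nroots, (expo D s x.val + expo D t x.val) ^ 2 = B2)
    (hB8 : ∑ x : Fin D.nroots, (expo D s x.val + expo D t x.val) ^ 8 = B8)
    (h2a : (A2 : ZMod p) ≠ 0) (h2b : (B2 : ZMod p) ≠ 0) (h8 : ((A8 * B2 ^ 4 - B8 * A2 ^ 4 : ℤ) : ZMod p) ≠ 0) : TF p K₀ := by
  have hp2 : p ≠ 2 := by omega
  obtain ⟨z, hz⟩ := exists_root (r := r) hpr
  have hz0 : z ≠ 0 := hz.ne_zero hpp.out.ne_zero
  obtain ⟨a, g, w, ha, hw⟩ := exists_elt m hp2 hpr hd hs hgs hz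
  obtain ⟨b, g', w', hb, hw'⟩ := exists_elt m hp2 hpr hd ht hgt hz
  have hoa := order_elt m hp2 hs hz ha hw
  have hob := order_elt m hp2 ht hz hb hw'
  have hab : a * b = b * a := m.inj (by rw [map_mul, map_mul, ha, hb, ps_comm hp hs ht hc])
  have h1 : H81.TorOrth.ps hp hs w * m.ι a * (H81.TorOrth.ps hp hs w)⁻¹ = H81.TorOrth.ps hp hs (hS z) := by
    rw [ha, ← map_mul, ← map_inv, ← map_mul, hw]
  have h2 : H81.TorOrth.ps hp ht w' * m.ι b * (H81.TorOrth.ps hp ht w')⁻¹ = H81.TorOrth.ps hp ht (hS z) := by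
    rw [hb, ← map_mul, ← map_inv, ← map_mul, hw']
  obtain ⟨y, hy⟩ : ∃ y : ↥(D.group (KK r)), y = H81.TorOrth.ps hp hs w * H81.TorOrth.ps hp ht w' := ⟨_, rfl⟩
  have h3 : y * m.ι a * y⁻¹ = H81.TorOrth.ps hp hs (hS z) := by
    rw [← h1, hy, ha, mul_inv_rev]
    have e := ps_comm hp hs ht hc g w'
    calc H81.TorOrth.ps hp hs w * H81.TorOrth.ps hp ht w' * H81.TorOrth.ps hp hs g *
          ((H81.TorOrth.ps hp ht w')⁻¹ * (H81.TorOrth.ps hp hs w)⁻¹)
        = H81.TorOrth.ps hp hs w * (H81.TorOrth.ps hp ht w' * H81.TorOrth.ps hp hs g) * (H81.TorOrth.ps hp ht w')⁻¹ *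
          (H81.TorOrth.ps hp hs w)⁻¹ := by group
      _ = H81.TorOrth.ps hp hs w * (H81.TorOrth.ps hp hs g * H81.TorOrth.ps hp ht w') * (H81.TorOrth.ps hp ht w')⁻¹ *
          (H81.TorOrth.ps hp hs w)⁻¹ := by rw [e]
      _ = _ := by group
  have h4 : y * m.ι b * y⁻¹ = H81.TorOrth.ps hp ht (hS z) := by
    have e := ps_comm hp hs ht hc w (hS z)
    calc y * m.ι b * y⁻¹ = H81.TorOrth.ps hp hs w * (H81.TorOrth.ps hp ht w' * m.ι b * (H81.TorOrth.ps hp ht w')⁻¹) *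
          (H81.TorOrth.ps hp hs w)⁻¹ := by
          rw [hy]; group
      _ = H81.TorOrth.ps hp hs w * H81.TorOrth.ps hp ht (hS z) * (H81.TorOrth.ps hp hs w)⁻¹ := by rw [h2]
      _ = _ := by rw [e]; group
  have h5 : ∀ i j : ℕ, IsConj (((D.group (KK r)).subtype.comp m.ι) (a ^ i * b ^ j))
      ((H81.TorOrth.ps hp hs (hS z) ^ i * H81.TorOrth.ps hp ht (hS z) ^ j : ↥(D.group (KK r))) : GL D.Idx (KK r)) := by
    intro i j
    have h5 : IsConj (m.ι (a ^ i * b ^ j)) (H81.TorOrth.ps hp hs (hS z) ^ i * H81.TorOrth.ps hp ht (hS z) ^ j) := by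
      refine isConj_iff.2 ⟨y, ?_⟩
      rw [map_mul, map_pow, map_pow, ← h3, ← h4, conj_pow, conj_pow]
      group
    exact (D.group (KK r)).subtype.map_isConj h5
  -- the Sylow subgroup
  have ha1 : a ^ p = 1 := by rw [← hoa, pow_orderOf_eq_one]
  have hb1 : b ^ p = 1 := by rw [← hob, pow_orderOf_eq_one]
  have hpz : ∀ c : K₀, c ^ p = 1 → IsPGroup p ↥(Subgroup.zpowers c) := by
    rintro c hc ⟨_, ⟨i, rfl⟩⟩
    refine ⟨1, Subtype.ext ?_⟩
    show (c ^ i) ^ p ^ 1 = 1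
    rw [pow_one, ← zpow_natCast, ← zpow_mul, mul_comm, zpow_mul, zpow_natCast, hc, one_zpow]
  obtain ⟨P, hP⟩ := ((hpz a ha1).to_sup_of_normal_right' (hpz b hb1) (by
    rw [Subgroup.zpowers_le, Subgroup.mem_normalizer_iff]
    intro c
    constructor
    · rintro ⟨i, rfl⟩
      refine ⟨i, ?_⟩
      show b ^ i = a * b ^ i * a⁻¹
      rw [(show Commute a b from hab).zpow_right i |>.eq, mul_inv_cancel_right]
    · rintro ⟨i, hi⟩
      refine ⟨i, ?_⟩
      have hi' : b ^ i = a * c * a⁻¹ := hi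
      have e1 : c = a⁻¹ * b ^ i * a := by rw [hi']; group
      show b ^ i = c
      rw [e1, mul_assoc, ← (show Commute a b from hab).zpow_right i |>.eq, inv_mul_cancel_left])).exists_le_sylow
  have haP : a ∈ (P : Subgroup K₀) := hP (Subgroup.mem_sup_left (Subgroup.mem_zpowers a))
  have hbP : b ∈ (P : Subgroup K₀) := hP (Subgroup.mem_sup_right (Subgroup.mem_zpowers b))
  obtain ⟨habP, C, hC⟩ := sylow_toral m hpr hW P
  refine ⟨P, habP, two_forms_of_mat ((D.group (KK r)).subtype.comp m.ι) hz h11 hA ?_ habP C hC haP (mul_mem haP hbP) ha1 ?_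
    (ex D s) (fun x => ex D s x + ex D t x) ?_ ?_ ?_ ?_ ?_⟩
  · rw [← hoa]
    exact orderOf_dvd_natCard a
  · rw [(show Commute a b from hab).mul_pow, ha1, hb1, one_mul]
  · refine ⟨_, by simpa using h5 1 0, ?_⟩
    have h6 := entry' (hp := hp) hs ht hz0 1 0
    simpa using h6
  · refine ⟨_, by simpa using h5 1 1, ?_⟩
    have h6 := entry' (hp := hp) hs ht hz0 1 1
    simpa using h6
  · rw [sum_ex_pow (by norm_num), hA2]
    exact h2a
  · rw [sum_ex_add_pow (by norm_num), hB2]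
    exact h2b
  · rw [sum_ex_pow (by norm_num), sum_ex_pow (by norm_num), sum_ex_add_pow (by norm_num), sum_ex_add_pow (by norm_num), hA2,
      hA8, hB2, hB8]
    exact h8

end Main

end Cfsg.Agent.H694.XM
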