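import Cfsg.Agent.H694.XZ.Exc

/-!
# S4791 + S4927: the exceptional groups, `p ∣ q² - 1`: two invariant forms of degree `p - 3`, the five families (helper694)
-/

set_option autoImplicit false

namespace Cfsg.Agent.H694.XM

open Cfsg Cfsg.Lie Cfsg.Lie.ChevalleyDatum
open Cfsg.Agent.ChevalleyStructure Cfsg.Agent.ChevalleyStructure.Elts Cfsg.Agent.ChevalleyStructure.CoxeterGeomTypes
open Cfsg.Agent.Nodes Cfsg.Agent.Nodes.RGDChev
open Cfsg.Agent.H316.U6
open Cfsg.Agent.ChevalleyStructure.HMatDiagAll (expo)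
open Cfsg.Agent.H603.AP Cfsg.Agent.H795

universe u v

variable {l : ℕ} {M : CoxeterMatrix (Fin l)} {r q : ℕ} [Fact r.Prime] {K₀ : Type v} [Group K₀] [Finite K₀] {p : ℕ} [hpp : Fact p.Prime]

theorem cast_ne' {n : ℤ} (h11 : 11 ≤ p) (hn : n ∣ 210 ^ 40) : (n : ZMod p) ≠ 0 := by
  intro h
  have h1 : (p : ℤ) ∣ n := (ZMod.intCast_zmod_eq_zero_iff_dvd n p).1 h
  have h2 : p ∣ 210 ^ 40 := by exact_mod_cast h1.trans hn
  have h3 : p ∣ 210 := hpp.out.dvd_of_dvd_pow h2
  have h4 : p ∈ Nat.primeFactors 210 := Nat.mem_primeFactors.2 ⟨hpp.out, h3, by norm_num⟩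
  have h5 : Nat.primeFactors 210 = {2, 3, 5, 7} := by
    have : (210 : ℕ) = 2 * 3 * (5 * 7) := by norm_num
    rw [this, Nat.primeFactors_mul (by norm_num) (by norm_num), Nat.primeFactors_mul (by norm_num) (by norm_num),
      Nat.primeFactors_mul (by norm_num) (by norm_num), Nat.Prime.primeFactors (by norm_num), Nat.Prime.primeFactors (by norm_num),
      Nat.Prime.primeFactors (by norm_num), Nat.Prime.primeFactors (by norm_num)]
    rfl
  rw [h5] at h4
  simp only [Finset.mem_insert, Finset.mem_singleton] at h4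
  omega

theorem tf_f4 {hp : IsType chevF4 l M} (m : MData hp r q K₀) (hg : m.g = AddEquiv.refl _) (h11 : 11 ≤ p)
    (hpr : p ≠ r) (hd : p ∣ q ^ 2 - 1) (hW : ¬ p ∣ Nat.card M.Group) (hA : AbIrr p K₀) : TF p K₀ :=
  forms_of m h11 hpr hd hW hA (s := 6) (t := 47) (A2 := 36) (A8 := 540) (B2 := 72) (B8 := 3600) (by decide) (by decide)
    (by rw [hg]; rfl) (by rw [hg]; rfl) (by decide +kernel) (by decide +kernel) (by decide +kernel) (by decide +kernel)
    (by decide +kernel) (cast_ne' h11 (by norm_num)) (cast_ne' h11 (by norm_num)) (cast_ne' h11 (by norm_num))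

theorem tf_e6 {hp : IsType chevE6 l M} (m : MData hp r q K₀) (hg : m.g = AddEquiv.refl _) (h11 : 11 ≤ p)
    (hpr : p ≠ r) (hd : p ∣ q ^ 2 - 1) (hW : ¬ p ∣ Nat.card M.Group) (hA : AbIrr p K₀) : TF p K₀ :=
  forms_of m h11 hpr hd hW hA (s := 11) (t := 71) (A2 := 48) (A8 := 552) (B2 := 96) (B8 := 4128) (by decide) (by decide)
    (by rw [hg]; rfl) (by rw [hg]; rfl) (by decide +kernel) (by decide +kernel) (by decide +kernel) (by decide +kernel)
    (by decide +kernel) (cast_ne' h11 (by norm_num)) (cast_ne' h11 (by norm_num)) (cast_ne' h11 (by norm_num))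

theorem tf_e7 {hp : IsType chevE7 l M} (m : MData hp r q K₀) (hg : m.g = AddEquiv.refl _) (h11 : 11 ≤ p)
    (hpr : p ≠ r) (hd : p ∣ q ^ 2 - 1) (hW : ¬ p ∣ Nat.card M.Group) (hA : AbIrr p K₀) : TF p K₀ :=
  forms_of m h11 hpr hd hW hA (s := 33) (t := 125) (A2 := 72) (A8 := 576) (B2 := 144) (B8 := 5184) (by decide) (by decide)
    (by rw [hg]; rfl) (by rw [hg]; rfl) (by decide +kernel) (by decide +kernel) (by decide +kernel) (by decide +kernel)
    (by decide +kernel) (cast_ne' h11 (by norm_num)) (cast_ne' h11 (by norm_num)) (cast_ne' h11 (by norm_num))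

theorem tf_e8 {hp : IsType chevE8 l M} (m : MData hp r q K₀) (hg : m.g = AddEquiv.refl _) (h11 : 11 ≤ p)
    (hpr : p ≠ r) (hd : p ∣ q ^ 2 - 1) (hW : ¬ p ∣ Nat.card M.Group) (hA : AbIrr p K₀) : TF p K₀ :=
  forms_of m h11 hpr hd hW hA (s := 13) (t := 239) (A2 := 120) (A8 := 624) (B2 := 240) (B8 := 7296) (by decide) (by decide)
    (by rw [hg]; rfl) (by rw [hg]; rfl) (by decide +kernel) (by decide +kernel) (by decide +kernel) (by decide +kernel)
    (by decide +kernel) (cast_ne' h11 (by norm_num)) (cast_ne' h11 (by norm_num)) (cast_ne' h11 (by norm_num))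

theorem tf_twE6 (m : MData Nodes.RGDTwE6.hp r q K₀) (hg : m.g = H720.TwFr.permE H720.TwFr.rho6) (h11 : 11 ≤ p)
    (hpr : p ≠ r) (hd : p ∣ q ^ 2 - 1) (hW : ¬ p ∣ Nat.card CoxeterMatrix.E₆.Group) (hA : AbIrr p K₀) : TF p K₀ :=
  forms_of m h11 hpr hd hW hA (s := 11) (t := 71) (A2 := 48) (A8 := 552) (B2 := 96) (B8 := 4128) (by decide) (by decide)
    (by rw [hg]; decide +kernel) (by rw [hg]; decide +kernel) (by decide +kernel) (by decide +kernel) (by decide +kernel)
    (by decide +kernel) (by decide +kernel) (cast_ne' h11 (by norm_num)) (cast_ne' h11 (by norm_num)) (cast_ne' h11 (by norm_num))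

/-- invariance under isomorphisms -/
theorem cast_field {F : Type v} [Field F] [CharP F r] (hpr : p ≠ r) : (p : F) ≠ 0 := by
  intro h
  rw [CharP.cast_eq_zero_iff F r] at h
  exact hpr ((Nat.prime_dvd_prime_iff_eq (Fact.out : r.Prime) hpp.out).1 h).symm

section Groups

variable {F : Type} [Field F] [Fintype F] [CharP F r]

theorem tf_F4 (h11 : 11 ≤ p) (hpr : p ≠ r) (hd : p ∣ Fintype.card F ^ 2 - 1) : TF p ↥(chevF4.group F) := by
  obtain ⟨m, hg, -⟩ := mdata_untw (r := r) (H129.CycT.typeF4) (fun h => absurd (congrArg ChevalleyDatum.nroots h) (by decide))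
    (fun h => absurd (congrArg ChevalleyDatum.nroots h) (by decide)) F
  refine tf_f4 m hg h11 hpr hd ?_ (RowsA.f4 (by omega) (cast_field (r := r) hpr)).1
  rw [RowsA.card_F4]
  exact RowsA.not_dvd_1152 hpp.out (by omega)

theorem tf_E6 (h11 : 11 ≤ p) (hpr : p ≠ r) (hd : p ∣ Fintype.card F ^ 2 - 1) : TF p ↥(chevE6.group F) := by
  obtain ⟨m, hg, -⟩ := mdata_untw (r := r) (H129.CycT.typeE6) (fun h => absurd (congrArg ChevalleyDatum.nroots h) (by decide))
    (fun h => absurd (congrArg ChevalleyDatum.nroots h) (by decide)) F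
  refine tf_e6 m hg h11 hpr hd ?_ (RowsA.e6 (by omega) (cast_field (r := r) hpr)).1
  rw [RowsA.card_E6]
  exact fun h => by have := RowsA.dvd_51840 hpp.out (by omega) h; omega

theorem tf_E7 (h11 : 11 ≤ p) (hpr : p ≠ r) (hd : p ∣ Fintype.card F ^ 2 - 1) : TF p ↥(chevE7.group F) := by
  obtain ⟨m, hg, -⟩ := mdata_untw (r := r) (H129.CycT.typeE7) (fun h => absurd (congrArg ChevalleyDatum.nroots h) (by decide))
    (fun h => absurd (congrArg ChevalleyDatum.nroots h) (by decide)) F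
  refine tf_e7 m hg h11 hpr hd ?_ (RowsA.e7 (by omega) (cast_field (r := r) hpr)).1
  rw [RowsA.card_E7]
  exact fun h => by have := RowsA.dvd_2903040 hpp.out (by omega) h; omega

theorem tf_E8 (h11 : 11 ≤ p) (hpr : p ≠ r) (hd : p ∣ Fintype.card F ^ 2 - 1) : TF p ↥(chevE8.group F) := by
  obtain ⟨m, hg, -⟩ := mdata_untw (r := r) (H129.CycT.typeE8) (fun h => absurd (congrArg ChevalleyDatum.nroots h) (by decide))
    (fun h => absurd (congrArg ChevalleyDatum.nroots h) (by decide)) F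
  refine tf_e8 m hg h11 hpr hd ?_ (RowsA.e8 (by omega) (cast_field (r := r) hpr) (by omega)).1
  rw [RowsA.card_E8]
  exact fun h => by have := RowsA.dvd_696729600 hpp.out (by omega) h; omega

theorem tf_2E6 (hq : IsPrimePow q) (hF : Fintype.card F = q ^ 2) (h11 : 11 ≤ p) (hpr : p ≠ r) (hd : p ∣ q ^ 2 - 1) :
    TF p ↥(twistedE6 F q) := by
  obtain ⟨m, -, hg⟩ := mdata_twE6' (r := r) (K := F) hq hF
  refine tf_twE6 m hg h11 hpr hd ?_ (Tw.twE6 (by omega) (cast_field (r := r) hpr) hq hF).1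
  rw [RowsA.card_E6]
  exact fun h => by have := RowsA.dvd_51840 hpp.out (by omega) h; omega

end Groups

end Cfsg.Agent.H694.XM
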