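import Cfsg.Agent.H694.XZ.Form
import Cfsg.Agent.H349.KBE.TwoRoots

/-!
# S4791 + S4927: invariant forms from a representation over a field of another characteristic (helper694)

`φ : S →* GL ι k`, `z ∈ k` a primitive `p`-th root of unity, `P` an abelian Sylow `p`-subgroup of exponent `p ^ (n + 1)`, `φ(P)`
conjugate to a group of diagonal matrices.

* `exists_w` : the exponents modulo `p` of the eigenvalues of `x ^ (p ^ n)`: weights with invariant power sums;
* `two_forms_of_mat` : two linearly independent invariant forms of degree `p - 3`.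
-/

set_option autoImplicit false
set_option linter.unusedSectionVars false

namespace Cfsg.Agent.H694.XM

open Cfsg Subgroup
open Cfsg.Agent.H603.AP Cfsg.Agent.H795 Cfsg.Agent.H694.XZ
open Cfsg.Agent.H349.KBE (lg lg_zpow map_eq_of_isConj)

universe u v w

variable {p : ℕ} [hp : Fact p.Prime] {S : Type u} [Group S] [Finite S] {P : Sylow p S} {ι : Type v} [Fintype ι] [DecidableEq ι]
  {k : Type w} [Field k] (φ : S →* GL ι k) {z : k} (hz : IsPrimitiveRoot z p)

include hz in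
theorem lg_mul {x y : k} (hx : x ^ p = 1) (hy : y ^ p = 1) : lg p z (x * y) = lg p z x + lg p z y := by
  have : NeZero p := ⟨hp.out.ne_zero⟩
  obtain ⟨i, -, rfl⟩ := hz.eq_pow_of_pow_eq_one hx
  obtain ⟨j, -, rfl⟩ := hz.eq_pow_of_pow_eq_one hy
  rw [← pow_add, ← zpow_natCast, ← zpow_natCast, ← zpow_natCast, lg_zpow hp.out.ne_zero hz, lg_zpow hp.out.ne_zero hz,
    lg_zpow hp.out.ne_zero hz]
  push_cast
  rfl

include hz in
theorem lg_one : lg p z (1 : k) = 0 := by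
  rw [← zpow_zero z, lg_zpow hp.out.ne_zero hz, Int.cast_zero]

include hz in
/-- **The weights.** -/
theorem exists_w (hab : ∀ x ∈ P, ∀ y ∈ P, x * y = y * x) {n : ℕ} (hn1 : ∀ x : P, x ^ p ^ (n + 1) = 1) (C : GL ι k)
    (hC : ∀ x ∈ (P : Subgroup S), ∃ d : ι → k, ((C * φ x * C⁻¹ : GL ι k) : Matrix ι ι k) = Matrix.diagonal d) :
    ∃ w : ι → LL p P, (∀ i, ∀ x : P, x ^ p ^ n = 1 → ev (w i) x = 0) ∧ PInv w ∧
      ∀ (x : P) (a : S), (x : S) ^ p ^ n = a → ∀ (d : ι → ℤ) (g : GL ι k), IsConj (φ a) g →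
        (g : Matrix ι ι k) = (Matrix.diagonal fun i => z ^ d i) → ∀ j : ℕ, ps w j x = ∑ i, ((d i : ℤ) : ZMod p) ^ j := by
  classical
  choose! δ hδ using hC
  have hinj : ∀ d e : ι → k, (Matrix.diagonal d : Matrix ι ι k) = Matrix.diagonal e → d = e := fun d e h =>
    Matrix.diagonal_injective h
  have hmul : ∀ x ∈ (P : Subgroup S), ∀ y ∈ (P : Subgroup S), δ (x * y) = fun i => δ x i * δ y i := by
    intro x hx y hy
    apply hinj
    rw [← hδ _ (mul_mem hx hy), ← Matrix.diagonal_mul_diagonal, ← hδ x hx, ← hδ y hy, ← Units.val_mul]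
    congr 1
    rw [map_mul]
    group
  have hone : δ 1 = fun _ => 1 := by
    apply hinj
    rw [← hδ _ (one_mem _), map_one, mul_one, mul_inv_cancel, Units.val_one, Matrix.diagonal_one]
  have hpow : ∀ x ∈ (P : Subgroup S), ∀ m : ℕ, δ (x ^ m) = fun i => δ x i ^ m := by
    intro x hx m
    induction m with
    | zero =>
      rw [pow_zero, hone]
      funext i
      rw [pow_zero]
    | succ m ih =>
      rw [pow_succ, hmul _ (pow_mem hx m) x hx, ih]
      funext i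
      rw [pow_succ]
  -- the eigenvalues of the power are `p`-th roots of unity
  have hroot : ∀ (x : P) (i : ι), δ ((x : S) ^ p ^ n) i ^ p = 1 := by
    intro x i
    have h1 := congrFun (hpow _ (pow_mem x.2 (p ^ n)) p) i
    have h2 : ((x : S) ^ p ^ n) ^ p = 1 := by
      rw [← pow_mul, ← pow_succ]
      exact congrArg Subtype.val (hn1 x)
    rw [h2, hone] at h1
    exact h1.symm
  let w : ι → LL p P := fun i => MonoidHom.mk' (fun x => Multiplicative.ofAdd (lg p z (δ ((x : S) ^ p ^ n) i))) fun x y => by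
    rw [← ofAdd_add, ← lg_mul hz (hroot x i) (hroot y i)]
    congr 2
    have h1 : (((x * y : P) : S)) ^ p ^ n = (x : S) ^ p ^ n * (y : S) ^ p ^ n := by
      rw [Subgroup.coe_mul]
      exact (show Commute (x : S) (y : S) from hab x x.2 y y.2).mul_pow _
    rw [h1, hmul _ (pow_mem x.2 _) _ (pow_mem y.2 _)]
  have hw : ∀ i (x : P), ev (w i) x = lg p z (δ ((x : S) ^ p ^ n) i) := fun i x => rfl
  refine ⟨w, ?_, ?_, ?_⟩
  · intro i x hx
    rw [hw]
    have h1 : (x : S) ^ p ^ n = 1 := congrArg Subtype.val hx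
    rw [h1, hone]
    exact lg_one hz
  · intro j g hg x y hxy
    have h1 : IsConj (C * φ ((x : S) ^ p ^ n) * C⁻¹) (C * φ ((y : S) ^ p ^ n) * C⁻¹) := by
      refine isConj_iff.2 ⟨C * φ g * C⁻¹, ?_⟩
      rw [← hxy, conj_pow, map_mul, map_mul, map_inv]
      group
    have h2 := map_eq_of_isConj h1 (hδ _ (pow_mem x.2 _)) (hδ _ (pow_mem y.2 _))
    have h3 := congrArg (fun m : Multiset k => (m.map fun t => lg p z t ^ j).sum) h2
    simp only [Multiset.map_map, Function.comp_def] at h3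
    exact h3.symm
  · intro x a hxa d g hag hg j
    have h1 : IsConj (C * φ ((x : S) ^ p ^ n) * C⁻¹) g := by
      rw [hxa]
      refine IsConj.trans (isConj_iff.2 ⟨C⁻¹, ?_⟩) hag
      group
    have h2 := map_eq_of_isConj h1 (hδ _ (pow_mem x.2 _)) hg
    have h3 := congrArg (fun m : Multiset k => (m.map fun t => lg p z t ^ j).sum) h2
    simp only [Multiset.map_map, Function.comp_def, lg_zpow hp.out.ne_zero hz] at h3
    exact h3

include hz in
/-- **Two forms of degree `p - 3`.** -/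
theorem two_forms_of_mat (h11 : 11 ≤ p) (hA : AbIrr p S) (hd : p ∣ Nat.card S) (hab : ∀ x ∈ P, ∀ y ∈ P, x * y = y * x)
    (C : GL ι k)
    (hC : ∀ x ∈ (P : Subgroup S), ∃ d : ι → k, ((C * φ x * C⁻¹ : GL ι k) : Matrix ι ι k) = Matrix.diagonal d)
    {a b : S} (ha : a ∈ (P : Subgroup S)) (hb : b ∈ (P : Subgroup S)) (ha1 : a ^ p = 1) (hb1 : b ^ p = 1)
    (da db : ι → ℤ)
    (hga : ∃ g : GL ι k, IsConj (φ a) g ∧ (g : Matrix ι ι k) = Matrix.diagonal fun i => z ^ da i)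
    (hgb : ∃ g : GL ι k, IsConj (φ b) g ∧ (g : Matrix ι ι k) = Matrix.diagonal fun i => z ^ db i)
    (h2a : ((∑ i, da i ^ 2 : ℤ) : ZMod p) ≠ 0) (h2b : ((∑ i, db i ^ 2 : ℤ) : ZMod p) ≠ 0)
    (h8 : (((∑ i, da i ^ 8) * (∑ i, db i ^ 2) ^ 4 - (∑ i, db i ^ 8) * (∑ i, da i ^ 2) ^ 4 : ℤ) : ZMod p) ≠ 0) :
    ∃ f g : LL p P → ZMod p, f ∈ Pol p P (p - 3) ∧ g ∈ Pol p P (p - 3) ∧ WInv P f ∧ WInv P g ∧
      LinearIndependent (ZMod p) ![f, g] := by
  obtain ⟨n, hn1, hn⟩ := roots_of_abIrr hA hd P hab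
  obtain ⟨w, hw1, hw, hwv⟩ := exists_w φ hz hab hn1 C hC
  obtain ⟨x, hx⟩ := hn ⟨a, ha⟩ (Subtype.ext ha1)
  obtain ⟨y, hy⟩ := hn ⟨b, hb⟩ (Subtype.ext hb1)
  obtain ⟨ga, hga1, hga2⟩ := hga
  obtain ⟨gb, hgb1, hgb2⟩ := hgb
  have ex : ∀ j, ps w j x = ((∑ i, da i ^ j : ℤ) : ZMod p) := by
    intro j
    rw [hwv x a (by rw [← Subgroup.coe_pow, hx]) da ga hga1 hga2]
    push_cast
    rfl
  have ey : ∀ j, ps w j y = ((∑ i, db i ^ j : ℤ) : ZMod p) := by
    intro j
    rw [hwv y b (by rw [← Subgroup.coe_pow, hy]) db gb hgb1 hgb2]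
    push_cast
    rfl
  refine two_forms h11 hA hab hn1 hn hw1 hw (x := x) (y := y) (by rw [ex]; exact h2a) (by rw [ey]; exact h2b) fun h => h8 ?_
  rw [ex, ex, ey, ey] at h
  rw [Int.cast_sub, Int.cast_mul, Int.cast_mul, Int.cast_pow, Int.cast_pow, h, sub_self]

end Cfsg.Agent.H694.XM
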